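import Cfsg.Agent.Lib.Helper95.Fix2.Defs

/-!
# Project FIX2 (S3390): package [LOC]
-/

set_option autoImplicit false

namespace Cfsg.Agent.Lib.Helper92.Fix2

open Cfsg.Agent.Lib.Helper95.Fix2

universe u v

/-- [LOC] normalizer growth in the `2`-group `S` gives the local data. -/
theorem pkgLoc : PkgLoc.{u, v} := by
  intro G _ _ Ω _ S α hS hfix hT hnS
  classical
  have : Fact (Nat.Prime 2) := ⟨Nat.prime_two⟩
  have hnil : Group.IsNilpotent ↥S := hS.isNilpotent
  have hnc : NormalizerCondition ↥S := Group.normalizerCondition_of_isNilpotent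
  -- the subgroup `T` inside `S`
  obtain ⟨T', hT'def⟩ : ∃ T' : Subgroup ↥S, T' = (MulAction.stabilizer G α).subgroupOf S :=
    ⟨_, rfl⟩
  have hmemT' : ∀ x : ↥S, x ∈ T' ↔ (x : G) • α = α := by
    intro x
    rw [hT'def, Subgroup.mem_subgroupOf, MulAction.mem_stabilizer_iff]
  have hlt : T' < ⊤ := by
    rw [lt_top_iff_ne_top]
    intro htop
    apply hnS
    intro s hs
    have h1 : (⟨s, hs⟩ : ↥S) ∈ T' := by
      rw [htop]
      exact Subgroup.mem_top _
    exact MulAction.mem_stabilizer_iff.mpr ((hmemT' _).mp h1)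
  have hlt2 := hnc T' hlt
  obtain ⟨t', ht'N, ht'T⟩ := SetLike.exists_of_lt hlt2
  obtain ⟨t, htS, ht'⟩ : ∃ t : G, ∃ h : t ∈ S, t' = ⟨t, h⟩ := ⟨t'.1, t'.2, rfl⟩
  -- `t` does not fix `α`
  have htα : t • α ≠ α := by
    intro h
    apply ht'T
    rw [hmemT', ht']
    exact h
  -- normalizing property
  have hnorm1 : ∀ x ∈ S, x • α = α → (t * x * t⁻¹) • α = α := by
    intro x hx hxα
    have h1 : (⟨x, hx⟩ : ↥S) ∈ T' := (hmemT' _).mpr hxα
    have h2 := (Subgroup.mem_normalizer_iff.mp ht'N ⟨x, hx⟩).mp h1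
    have h3 := (hmemT' _).mp h2
    rw [ht'] at h3
    exact h3
  have hnorm2 : ∀ x ∈ S, x • α = α → (t⁻¹ * x * t) • α = α := by
    intro x hx hxα
    have h1 : (⟨x, hx⟩ : ↥S) ∈ T' := (hmemT' _).mpr hxα
    have h2 := (Subgroup.mem_normalizer_iff''.mp ht'N ⟨x, hx⟩).mp h1
    have h3 := (hmemT' _).mp h2
    rw [ht'] at h3
    exact h3
  -- `ab`
  have hab : ∀ x ∈ S, x • α = α → x • (t • α) = t • α := by
    intro x hx hxα
    have h := hnorm2 x hx hxα
    rw [mul_smul, mul_smul] at h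
    have h2 := congrArg (fun w => t • w) h
    simp only [smul_inv_smul] at h2
    exact h2
  -- `ba`
  have hba : ∀ x ∈ S, x • (t • α) = t • α → x • α = α := by
    intro x hx hxβ
    have h1 : (t⁻¹ * x * t) • α = α := by
      rw [mul_smul, mul_smul, hxβ, inv_smul_smul]
    have hmem : t⁻¹ * x * t ∈ S := S.mul_mem (S.mul_mem (S.inv_mem htS) hx) htS
    have h2 := hnorm1 _ hmem h1
    have e : t * (t⁻¹ * x * t) * t⁻¹ = x := by group
    rw [e] at h2
    exact h2
  -- `fix`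
  have hfx : ∀ x ∈ S, x ≠ 1 → x • α = α → ∀ ω : Ω, x • ω = ω → ω = α ∨ ω = t • α := by
    intro x hx hx1 hxα ω hω
    rcases hfix x hx hx1 α (t • α) ω hxα (hab x hx hxα) hω with h | h | h
    · exact absurd h.symm htα
    · exact Or.inl h.symm
    · exact Or.inr h.symm
  -- a non-identity element of `T`
  obtain ⟨x, hx1⟩ := (Subgroup.ne_bot_iff_exists_ne_one.mp hT)
  obtain ⟨x, hxmem⟩ := x
  have hx1' : x ≠ 1 := fun h => hx1 (Subtype.ext h)
  have hxS : x ∈ S := (Subgroup.mem_inf.mp hxmem).1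
  have hxα : x • α = α := MulAction.mem_stabilizer_iff.mp (Subgroup.mem_inf.mp hxmem).2
  refine ⟨t • α, t, ⟨htα, htS, rfl, ?_, hab, hba, hfx⟩⟩
  -- `tβ`
  have hy : (t⁻¹ * x * t) • α = α := hnorm2 x hxS hxα
  have hyS : t⁻¹ * x * t ∈ S := S.mul_mem (S.mul_mem (S.inv_mem htS) hxS) htS
  have hyβ := hab _ hyS hy
  have h3 : x • (t • (t • α)) = t • (t • α) := by
    have h4 : t • ((t⁻¹ * x * t) • (t • α)) = t • (t • α) := congrArg (fun w => t • w) hyβ
    rw [← mul_smul, ← mul_smul, ← mul_smul] at h4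
    have e : t * (t⁻¹ * x * t) * t = x * (t * t) := by group
    rw [e, mul_smul, mul_smul] at h4
    exact h4
  rcases hfx x hxS hx1' hxα _ h3 with h | h
  · exact h
  · exact absurd (smul_left_cancel t h) htα

end Cfsg.Agent.Lib.Helper92.Fix2
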